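import Cfsg.Agent.Helper11.SchSz8M1.MTab

set_option autoImplicit false
set_option linter.all false
set_option maxRecDepth 1000000
set_option maxHeartbeats 0

namespace Cfsg.Agent.Helper11.SchSz8M1

theorem okM4 : OKM (4 * 520) 520 := by decide +kernel
theorem okM5 : OKM (5 * 520) 520 := by decide +kernel

end Cfsg.Agent.Helper11.SchSz8M1
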